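import Mathlib
import Cfsg.Agent.Lib.Omega.JordanType

/-!
Nilpotent skew maps of symmetric bilinear forms: rank parities of isometries and models for a prescribed
Jordan type.
-/

set_option autoImplicit false

open Module LinearMap

namespace CfsgLib.Omega

universe u v w

variable {F : Type u} [Field F] {V : Type v} [AddCommGroup V] [Module F V] [FiniteDimensional F V]

/-- A skew map of a symmetric non-degenerate form has even rank. -/
theorem even_finrank_range_of_skew (h2 : (2 : F) ≠ 0) (B : LinearMap.BilinForm F V)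
    (hsym : ∀ u v, B u v = B v u) (hnd : ∀ u, (∀ v, B u v = 0) → u = 0) (T : Module.End F V)
    (hT : ∀ u v, B (T u) v = -B u (T v)) : Even (finrank F (LinearMap.range T)) := by
  classical
  obtain ⟨C, hC⟩ := Submodule.exists_isCompl (LinearMap.ker T)
  have hrC : finrank F C = finrank F (LinearMap.range T) := by
    have h1 := Submodule.finrank_add_eq_of_isCompl hC
    have h3 := LinearMap.finrank_range_add_finrank_ker T
    omega
  rw [← hrC]
  let β : LinearMap.BilinForm F C := (B.comp T LinearMap.id).restrict C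
  have hβ : ∀ u v, β u v = B (T u) v := fun u v => rfl
  have halt : ∀ u, β u u = 0 := fun u => by
    have h := hT u u
    rw [hsym u (T u)] at h
    rw [hβ]
    exact (mul_eq_zero.1 (show (2 : F) * B (T u) u = 0 by linear_combination h)).resolve_left h2
  have hker : LinearMap.ker β = ⊥ := by
    rw [Submodule.eq_bot_iff]
    intro u hu
    have hTu : T u = 0 := by
      refine hnd _ fun v => ?_
      obtain ⟨k, hk, c, hc, rfl⟩ := Submodule.mem_sup.1
        (show v ∈ LinearMap.ker T ⊔ C by rw [hC.sup_eq_top]; trivial)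
      rw [map_add, hT u k, LinearMap.mem_ker.1 hk, map_zero, neg_zero, zero_add]
      exact DFunLike.congr_fun (LinearMap.mem_ker.1 hu) ⟨c, hc⟩
    refine Subtype.ext (Submodule.mem_bot F |>.1 (hC.inf_eq_bot ▸ ⟨hTu, u.2⟩ : (u : V) ∈ (⊥ : Submodule F V)))
  set b := Module.finBasis F C
  have hdet : (LinearMap.BilinForm.toMatrix b β).det ≠ 0 :=
    (LinearMap.BilinForm.nondegenerate_iff_det_ne_zero b).1
      (LinearMap.BilinForm.nondegenerate_iff_ker_eq_bot.2 hker)
  by_contra hodd
  rw [Nat.not_even_iff_odd] at hodd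
  refine hdet ?_
  have hanti : (LinearMap.BilinForm.toMatrix b β).transpose = -LinearMap.BilinForm.toMatrix b β := by
    ext i j
    rw [Matrix.transpose_apply, Matrix.neg_apply, LinearMap.BilinForm.toMatrix_apply,
      LinearMap.BilinForm.toMatrix_apply]
    have := halt (b i + b j)
    simp only [map_add, LinearMap.add_apply, halt, zero_add, add_zero] at this
    linear_combination this
  have h := congrArg Matrix.det hanti
  rw [Matrix.det_transpose, Matrix.det_neg, Fintype.card_fin, hodd.neg_one_pow, neg_one_mul] at h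
  exact (mul_eq_zero.1 (show (2 : F) * _ = 0 by linear_combination h)).resolve_left h2

section Isometry

variable {p : ℕ} {B : LinearMap.BilinForm F V} {x : Module.End F V}

theorem bilin_pow_apply (hx : ∀ u v, B (x u) (x v) = B u v) :
    ∀ (k : ℕ) u v, B ((x ^ k) u) ((x ^ k) v) = B u v := by
  intro k
  induction k with
  | zero => intro u v; rfl
  | succ k ih => intro u v; rw [pow_succ', Module.End.mul_apply, Module.End.mul_apply, hx, ih]

/-- The rank of an odd power of `x - 1` on a non-degenerate invariant subspace is even. -/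
theorem even_rankSeq_of_isometry (h2 : (2 : F) ≠ 0) (hp : 1 ≤ p) (hsym : ∀ u v, B u v = B v u)
    (hx : ∀ u v, B (x u) (x v) = B u v) (hxp : x ^ p = 1) (hNp : (x - 1) ^ p = 0) {D : Submodule F V}
    (hD : ∀ v ∈ D, x v ∈ D) (hDnd : ∀ u ∈ D, (∀ v ∈ D, B u v = 0) → u = 0) {k : ℕ} (hk : Odd k) :
    Even (rankSeq (x - 1) D k) := by
  classical
  have hadj : ∀ u v, B (x u) v = B u ((x ^ (p - 1)) v) := fun u v => by
    conv_lhs => rw [show v = x ((x ^ (p - 1)) v) by
      rw [← Module.End.mul_apply, ← pow_succ', Nat.sub_add_cancel hp, hxp]; rfl]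
    rw [hx]
  let Y : Module.End F V := x - x ^ (p - 1)
  have hY : ∀ u v, B (Y u) v = -B u (Y v) := fun u v => by
    have h1 : B ((x ^ (p - 1)) u) v = B u (x v) := by
      rw [hsym, ← hadj, hsym]
    simp only [Y, LinearMap.sub_apply, map_sub]
    rw [hadj, h1]
    ring
  let U : Module.End F V := x ^ (p - 1) * (x + 1)
  have hYU : Y = U * (x - 1) := by
    have e1 : x ^ (p - 1) * x = 1 := by rw [← pow_succ, Nat.sub_add_cancel hp, hxp]
    calc x - x ^ (p - 1) = x ^ (p - 1) * x * x - x ^ (p - 1) := by rw [e1, one_mul]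
      _ = x ^ (p - 1) * (x + 1) * (x - 1) := by noncomm_ring
  have hxinj : ∀ u, x u = 0 → u = 0 := fun u hu => by
    have h : (x ^ p) u = u := by rw [hxp]; rfl
    rw [← h, show p = p - 1 + 1 by omega, pow_succ, Module.End.mul_apply, hu, map_zero]
  have hUinj : ∀ u, U u = 0 → u = 0 := fun u hu => by
    have h1 : x u + u = 0 := by
      have h3 : ((x ^ (p - 1)) (x u + u)) = 0 := hu
      have := congrArg x h3
      rw [map_zero, ← Module.End.mul_apply, ← pow_succ', Nat.sub_add_cancel hp, hxp] at this
      exact this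
    have h3 : ∀ i : ℕ, ((x - 1) ^ i) u = (-2 : F) ^ i • u := by
      intro i
      induction i with
      | zero => simp
      | succ i ih =>
        rw [pow_succ', Module.End.mul_apply, ih, map_smul, LinearMap.sub_apply, Module.End.one_apply,
          eq_neg_of_add_eq_zero_left h1, pow_succ']
        module
    have h4 := h3 p
    rw [hNp, LinearMap.zero_apply, eq_comm, smul_eq_zero] at h4
    exact h4.resolve_left (pow_ne_zero _ (neg_ne_zero.2 h2))
  have hcx : Commute U (x - 1) :=
    ((Commute.pow_self x _).mul_left ((Commute.refl x).add_left (Commute.one_left x))).sub_right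
      (Commute.one_right _)
  have hDpow : ∀ i, ∀ v ∈ D, (x ^ i) v ∈ D := by
    intro i
    induction i with
    | zero => intro v hv; exact hv
    | succ i ih => intro v hv; rw [pow_succ', Module.End.mul_apply]; exact hD _ (ih v hv)
  have hDY : ∀ v ∈ D, Y v ∈ D := fun v hv => sub_mem (hD v hv) (hDpow _ v hv)
  have hDYk : ∀ i, ∀ v ∈ D, (Y ^ i) v ∈ D := by
    intro i
    induction i with
    | zero => intro v hv; exact hv
    | succ i ih => intro v hv; rw [pow_succ', Module.End.mul_apply]; exact hDY _ (ih v hv)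
  have hYk : ∀ i u v, B ((Y ^ i) u) v = (-1) ^ i * B u ((Y ^ i) v) := by
    intro i
    induction i with
    | zero => intro u v; simp
    | succ i ih =>
      intro u v
      rw [pow_succ', Module.End.mul_apply, hY, ih, ← Module.End.mul_apply, ← pow_succ, ← pow_succ', pow_succ']
      ring
  let T : Module.End F D := (Y ^ k).restrict (hDYk k)
  have hT : Even (finrank F (LinearMap.range T)) := by
    refine even_finrank_range_of_skew h2 (B.restrict D) (fun u v => hsym u v)
      (fun u hu => Subtype.ext (hDnd u u.2 fun v hv => hu ⟨v, hv⟩)) T fun u v => ?_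
    show B ((Y ^ k) u) v = -B u ((Y ^ k) v)
    rw [hYk, hk.neg_one_pow, neg_one_mul]
  have hUk : LinearMap.ker (U ^ k : Module.End F V) = ⊥ := by
    refine LinearMap.ker_eq_bot.2 ?_
    rw [Module.End.coe_pow]
    exact Function.Injective.iterate (LinearMap.ker_eq_bot.1 ((Submodule.eq_bot_iff _).2
      fun u hu => hUinj u (LinearMap.mem_ker.1 hu))) k
  have hrT : finrank F (LinearMap.range T) = rankSeq (x - 1) D k := by
    have h1 : (LinearMap.range T).map D.subtype =
        (D.map ((x - 1) ^ k : Module.End F V)).map (U ^ k : Module.End F V) := by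
      rw [← Submodule.map_comp, ← Module.End.mul_eq_comp, ← hcx.mul_pow, ← hYU, ← LinearMap.range_comp]
      ext v
      constructor
      · rintro ⟨u, rfl⟩; exact ⟨u, u.2, rfl⟩
      · rintro ⟨u, hu, rfl⟩; exact ⟨⟨u, hu⟩, rfl⟩
    rw [← Submodule.finrank_map_subtype_eq, h1, rankSeq,
      LinearEquiv.finrank_eq (Submodule.equivMapOfInjective _ (LinearMap.ker_eq_bot.1 hUk) _).symm]
  rwa [← hrT]

/-- The even parts of an orthogonal unipotent element have even multiplicities. -/
theorem even_count_jordanParts (h2 : (2 : F) ≠ 0) (hp : 1 ≤ p) (hsym : ∀ u v, B u v = B v u)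
    (hx : ∀ u v, B (x u) (x v) = B u v) (hxp : x ^ p = 1) (hNp : (x - 1) ^ p = 0) {D : Submodule F V}
    (hD : ∀ v ∈ D, x v ∈ D) (hDnd : ∀ u ∈ D, (∀ v ∈ D, B u v = 0) → u = 0) {e : ℕ} (he : Even e) :
    Even ((jordanParts (x - 1) D p).count e) := by
  rcases e with _ | j
  · rw [count_jordanParts_zero]; exact ⟨0, rfl⟩
  rw [count_jordanParts]
  have hj : Odd j := by
    obtain ⟨i, hi⟩ := he
    exact ⟨i - 1, by omega⟩
  split_ifs
  · have hle : D.map (x - 1) ≤ D := by
      rintro _ ⟨v, hv, rfl⟩
      exact sub_mem (hD v hv) hv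
    have h1 := rankSeq_convex hle j
    rw [Nat.even_sub h1, Nat.even_add]
    exact iff_of_true (iff_of_true (even_rankSeq_of_isometry h2 hp hsym hx hxp hNp hD hDnd hj)
      (even_rankSeq_of_isometry h2 hp hsym hx hxp hNp hD hDnd (by simpa [parity_simps] using hj))) (even_two_mul _)
  · exact ⟨0, rfl⟩

end Isometry

/-! ### Models -/

/-- `Y` is a nilpotent skew map of type `μ` for the non-degenerate form `H`. -/
structure IsSkewModel {V : Type w} [AddCommGroup V] [Module F V] (μ : Multiset ℕ)
    (H : LinearMap.BilinForm F V) (Y : Module.End F V) : Prop where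
  left : ∀ u, (∀ v, H u v = 0) → u = 0
  right : ∀ v, (∀ u, H u v = 0) → v = 0
  skew : ∀ u v, H (Y u) v = -H u (Y v)
  rank : ∀ i, rankSeq Y ⊤ i = (μ.map (fun b => b - i)).sum

theorem rankSeq_top {V : Type w} [AddCommGroup V] [Module F V] (Y : Module.End F V) (i : ℕ) :
    rankSeq Y ⊤ i = finrank F (LinearMap.range (Y ^ i : Module.End F V)) := by
  rw [rankSeq, Submodule.map_top]

theorem rankSeq_conj {V W : Type*} [AddCommGroup V] [Module F V] [AddCommGroup W] [Module F W]
    (E : V ≃ₗ[F] W) (Y : Module.End F V) (i : ℕ) :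
    rankSeq (E.conj Y : Module.End F W) ⊤ i = rankSeq Y ⊤ i := by
  rw [rankSeq_top, rankSeq_top]
  have h : (E.conj Y : Module.End F W) ^ i = E.conj (Y ^ i) := by
    induction i with
    | zero => rw [pow_zero, pow_zero, Module.End.one_eq_id, Module.End.one_eq_id, LinearEquiv.conj_id]
    | succ i ih => rw [pow_succ, ih, pow_succ, Module.End.mul_eq_comp, Module.End.mul_eq_comp, LinearEquiv.conj_comp]
  rw [h, LinearEquiv.conj_apply, LinearMap.range_comp, LinearEquiv.range, Submodule.map_top, LinearMap.range_comp,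
    LinearEquiv.finrank_map_eq]

theorem IsSkewModel.prod {V : Type v} [AddCommGroup V] [Module F V] [FiniteDimensional F V]
    {W : Type w} [AddCommGroup W] [Module F W] [FiniteDimensional F W]
    {μ ν : Multiset ℕ} {H : LinearMap.BilinForm F V} {Y : Module.End F V} (h : IsSkewModel μ H Y)
    {H' : LinearMap.BilinForm F W} {Y' : Module.End F W} (h' : IsSkewModel ν H' Y') :
    IsSkewModel (μ + ν) (H.compl₁₂ (LinearMap.fst F V W) (LinearMap.fst F V W) +
      H'.compl₁₂ (LinearMap.snd F V W) (LinearMap.snd F V W)) (Y.prodMap Y') := by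
  refine ⟨fun u hu => Prod.ext (h.left _ fun v => ?_) (h'.left _ fun v => ?_),
    fun u hu => Prod.ext (h.right _ fun v => ?_) (h'.right _ fun v => ?_), fun u v => ?_, fun i => ?_⟩
  · simpa using hu (v, 0)
  · simpa using hu (0, v)
  · simpa using hu (v, 0)
  · simpa using hu (0, v)
  · simp only [LinearMap.add_apply, LinearMap.compl₁₂_apply, LinearMap.fst_apply, LinearMap.snd_apply,
      LinearMap.prodMap_apply, h.skew, h'.skew]
    ring
  · rw [Multiset.map_add, Multiset.sum_add, ← h.rank, ← h'.rank, rankSeq_top, rankSeq_top, rankSeq_top]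
    have hpow : (Y.prodMap Y' : Module.End F (V × W)) ^ i = (Y ^ i : Module.End F V).prodMap (Y' ^ i) := by
      induction i with
      | zero => rfl
      | succ i ih => rw [pow_succ, ih, pow_succ, pow_succ]; rfl
    rw [hpow, LinearMap.range_prodMap,
      LinearEquiv.finrank_eq
        ({ toFun := fun x => (⟨x.1.1, x.2.1⟩, ⟨x.1.2, x.2.2⟩)
           invFun := fun x => ⟨(x.1, x.2), x.1.2, x.2.2⟩
           map_add' := fun _ _ => rfl
           map_smul' := fun _ _ => rfl
           left_inv := fun _ => rfl
           right_inv := fun _ => rfl } :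
          ↥((LinearMap.range (Y ^ i : Module.End F V)).prod (LinearMap.range (Y' ^ i : Module.End F W))) ≃ₗ[F]
            (LinearMap.range (Y ^ i : Module.End F V) × LinearMap.range (Y' ^ i : Module.End F W))),
      Module.finrank_prod]

/-- Two copies of a model paired hyperbolically. -/
theorem IsSkewModel.double {V : Type v} [AddCommGroup V] [Module F V] [FiniteDimensional F V]
    {μ : Multiset ℕ} {H : LinearMap.BilinForm F V} {Y : Module.End F V} (h : IsSkewModel μ H Y) :
    ∃ H₂ : LinearMap.BilinForm F (V × V), (∀ u v, H₂ u v = H₂ v u) ∧ IsSkewModel (μ + μ) H₂ (Y.prodMap Y) := by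
  refine ⟨H.compl₁₂ (LinearMap.fst F V V) (LinearMap.snd F V V) +
    H.flip.compl₁₂ (LinearMap.snd F V V) (LinearMap.fst F V V), fun u v => ?_,
    ⟨fun u hu => Prod.ext (h.left _ fun v => ?_) (h.right _ fun v => ?_),
    fun u hu => Prod.ext (h.left _ fun v => ?_) (h.right _ fun v => ?_), fun u v => ?_, (h.prod h).rank⟩⟩
  · simp only [LinearMap.add_apply, LinearMap.compl₁₂_apply, LinearMap.fst_apply, LinearMap.snd_apply,
      LinearMap.BilinForm.flip_apply]
    ring
  · simpa using hu (0, v)
  · simpa using hu (v, 0)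
  · simpa using hu (0, v)
  · simpa using hu (v, 0)
  · simp only [LinearMap.add_apply, LinearMap.compl₁₂_apply, LinearMap.fst_apply, LinearMap.snd_apply,
      LinearMap.prodMap_apply, LinearMap.BilinForm.flip_apply]
    rw [h.skew u.1 v.2, h.skew v.1 u.2]
    ring

/-- A single block. -/
theorem exists_block (e : ℕ) :
    ∃ (H : LinearMap.BilinForm F (Fin e → F)) (Y : Module.End F (Fin e → F)),
      (Odd e → ∀ u v, H u v = H v u) ∧ (Even e → ∀ u v, H u v = -H v u) ∧ IsSkewModel {e} H Y := by
  classical
  rcases e with _ | d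
  · exact ⟨0, 0, fun _ _ _ => rfl, fun _ _ _ => by simp, ⟨fun u _ => Subsingleton.elim _ _, fun u _ => Subsingleton.elim _ _,
      fun _ _ => by simp, fun i => by rw [rankSeq_top]; simp [Module.finrank_zero_of_subsingleton]⟩⟩
  let H : LinearMap.BilinForm F (Fin (d + 1) → F) := LinearMap.mk₂ F
    (fun u v => ∑ i : Fin (d + 1), (-1) ^ (i : ℕ) * u i * v (Fin.rev i))
    (fun u u' v => by simp [mul_add, add_mul, Finset.sum_add_distrib])
    (fun c u v => by simp [Finset.mul_sum]; exact Finset.sum_congr rfl fun i _ => by ring)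
    (fun u v v' => by simp [mul_add, Finset.sum_add_distrib])
    (fun c u v => by simp [Finset.mul_sum]; exact Finset.sum_congr rfl fun i _ => by ring)
  have hH : ∀ u v, H u v = ∑ i : Fin (d + 1), (-1) ^ (i : ℕ) * u i * v (Fin.rev i) := fun u v => rfl
  let Y : Module.End F (Fin (d + 1) → F) :=
    { toFun := fun w => Fin.cons 0 (fun j => w (Fin.castSucc j))
      map_add' := fun w w' => by ext i; induction i using Fin.cases <;> simp
      map_smul' := fun c w => by ext i; induction i using Fin.cases <;> simp }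
  have hY0 : ∀ w, Y w 0 = 0 := fun w => rfl
  have hYs : ∀ w (j : Fin d), Y w j.succ = w (Fin.castSucc j) := fun w j => by simp [Y]
  have hpow : ∀ (k : ℕ) w (i : Fin (d + 1)),
      (Y ^ k) w i = if k ≤ (i : ℕ) then w ⟨i - k, by omega⟩ else 0 := by
    intro k
    induction k with
    | zero => intro w i; simp
    | succ k ih =>
      intro w i
      rw [pow_succ, Module.End.mul_apply, ih]
      by_cases hk : k + 1 ≤ (i : ℕ)
      · rw [if_pos hk, if_pos (by omega)]
        have : (⟨(i : ℕ) - k, by omega⟩ : Fin (d + 1)) = (⟨(i : ℕ) - (k + 1), by omega⟩ : Fin d).succ :=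
          Fin.ext (by simp; omega)
        rw [this, hYs]
        rfl
      · rw [if_neg hk]
        split_ifs with h
        · rw [show (⟨(i : ℕ) - k, _⟩ : Fin (d + 1)) = 0 from Fin.ext (by simp; omega), hY0]
        · rfl
  have hflip : ∀ u v, H u v = (-1) ^ d * H v u := fun u v => by
    rw [hH, hH, Finset.mul_sum, ← Equiv.sum_comp Fin.revPerm]
    refine Finset.sum_congr rfl fun i _ => ?_
    rw [Fin.revPerm_apply, Fin.rev_rev]
    have : (-1 : F) ^ ((Fin.rev i : Fin (d + 1)) : ℕ) = (-1) ^ d * (-1) ^ (i : ℕ) := by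
      rw [← mul_left_inj' (pow_ne_zero (i : ℕ) (neg_ne_zero.2 (one_ne_zero (α := F)))), ← pow_add, Fin.val_rev,
        show d + 1 - ((i : ℕ) + 1) + (i : ℕ) = d by omega, mul_assoc, ← pow_add, Even.neg_one_pow ⟨_, rfl⟩, mul_one]
    rw [this]
    ring
  refine ⟨H, Y, fun hodd u v => ?_, fun hev u v => ?_, ⟨fun u hu => ?_, fun v hv => ?_, fun u v => ?_, fun k => ?_⟩⟩
  · rw [hflip, Even.neg_one_pow (by simpa [parity_simps] using hodd), one_mul]
  · rw [hflip, Odd.neg_one_pow (by simpa [parity_simps] using hev), neg_one_mul]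
  · funext i
    have h := hu (Pi.single (Fin.rev i) 1)
    rw [hH, Finset.sum_eq_single i (fun j _ hj => by
      rw [Pi.single_eq_of_ne (Fin.rev_injective.ne hj), mul_zero]) (by simp)] at h
    rw [Pi.single_eq_same, mul_one, mul_eq_zero] at h
    exact h.resolve_left (pow_ne_zero _ (neg_ne_zero.2 one_ne_zero))
  · funext i
    have h := hv (Pi.single (Fin.rev i) 1)
    rw [hH, Finset.sum_eq_single (Fin.rev i) (fun j _ hj => by
      rw [Pi.single_eq_of_ne hj, mul_zero, zero_mul]) (by simp)] at h
    rw [Pi.single_eq_same, mul_one, Fin.rev_rev, mul_eq_zero] at h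
    exact h.resolve_left (pow_ne_zero _ (neg_ne_zero.2 one_ne_zero))
  · rw [hH, hH, Fin.sum_univ_succ, Fin.sum_univ_castSucc, hY0, Fin.rev_last, hY0, mul_zero, zero_mul,
      mul_zero, zero_add, add_zero, ← Finset.sum_neg_distrib]
    refine Finset.sum_congr rfl fun j _ => ?_
    rw [hYs, Fin.rev_succ, Fin.rev_castSucc, hYs, Fin.val_succ, Fin.val_castSucc, pow_succ]
    ring
  · rw [Multiset.map_singleton, Multiset.sum_singleton, rankSeq_top]
    let R : (Fin (d + 1) → F) →ₗ[F] (Fin (d + 1 - k) → F) :=
      LinearMap.funLeft F F (fun j : Fin (d + 1 - k) => (⟨j, by omega⟩ : Fin (d + 1)))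
    let P : (Fin (d + 1 - k) → F) →ₗ[F] (Fin (d + 1) → F) :=
      { toFun := fun w i => if h : k ≤ (i : ℕ) then w ⟨(i : ℕ) - k, by omega⟩ else 0
        map_add' := fun w w' => by ext i; simp only [Pi.add_apply]; split_ifs <;> simp
        map_smul' := fun c w => by ext i; simp only [Pi.smul_apply, RingHom.id_apply]; split_ifs <;> simp }
    have hPR : Y ^ k = P ∘ₗ R := by
      refine LinearMap.ext fun w => funext fun i => ?_
      rw [hpow]
      show _ = dite _ _ _
      split_ifs <;> rfl
    have hR : LinearMap.range R = ⊤ :=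
      LinearMap.range_eq_top.2 (LinearMap.funLeft_surjective_of_injective F F _
        fun a b h => Fin.ext (congrArg (fun z : Fin (d + 1) => (z : ℕ)) h))
    have hP : Function.Injective P := fun w w' h => funext fun j => by
      have := congrFun h ⟨(j : ℕ) + k, by omega⟩
      change dite _ _ _ = dite _ _ _ at this
      rw [dif_pos (Nat.le_add_left _ _), dif_pos (Nat.le_add_left _ _)] at this
      simpa using this
    rw [hPR, LinearMap.range_comp_of_range_eq_top P hR, LinearMap.finrank_range_of_inj hP, Module.finrank_fin_fun]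

/-- A symmetric model for every type whose even parts have even multiplicities. -/
theorem exists_symm_model (μ : Multiset ℕ) (hμ : ∀ e, Even e → Even (μ.count e)) :
    ∃ (B : LinearMap.BilinForm F (Fin μ.sum → F)) (Y : Module.End F (Fin μ.sum → F)),
      (∀ u v, B u v = B v u) ∧ IsSkewModel μ B Y := by
  classical
  -- transport of a model to coordinates
  have transport : ∀ {W : Type u} [AddCommGroup W] [Module F W] [FiniteDimensional F W] (ν : Multiset ℕ)
      (B : LinearMap.BilinForm F W) (Y : Module.End F W), (∀ u v, B u v = B v u) → IsSkewModel ν B Y →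
      ∃ (B : LinearMap.BilinForm F (Fin ν.sum → F)) (Y : Module.End F (Fin ν.sum → F)),
        (∀ u v, B u v = B v u) ∧ IsSkewModel ν B Y := by
    intro W _ _ _ ν B Y hs h
    have hdim : finrank F W = ν.sum := by
      have := h.rank 0
      rw [rankSeq_zero, finrank_top] at this
      simpa using this
    let E : W ≃ₗ[F] (Fin ν.sum → F) := LinearEquiv.ofFinrankEq _ _ (by rw [hdim, Module.finrank_fin_fun])
    refine ⟨B.compl₁₂ E.symm.toLinearMap E.symm.toLinearMap, E.conj Y, fun u v => hs _ _,
      fun u hu => E.symm.injective ?_, fun u hu => E.symm.injective ?_, fun u v => ?_, fun i => ?_⟩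
    · rw [map_zero]; exact h.left _ fun v => by simpa using hu (E v)
    · rw [map_zero]; exact h.right _ fun v => by simpa using hu (E v)
    · simp [LinearEquiv.conj_apply, h.skew]
    · rw [rankSeq_conj, h.rank]
  induction hn : Multiset.card μ using Nat.strong_induction_on generalizing μ with
  | _ n ih =>
    by_cases hodd : ∃ e ∈ μ, Odd e
    · obtain ⟨e, he, heo⟩ := hodd
      obtain ⟨ν, rfl⟩ := Multiset.exists_cons_of_mem he
      have hν : ∀ e', Even e' → Even (ν.count e') := fun e' he' => by
        have := hμ e' he'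
        rwa [Multiset.count_cons_of_ne (fun h => by subst h; exact Nat.not_odd_iff_even.2 he' heo)] at this
      obtain ⟨B', Y', hs', h'⟩ := ih (Multiset.card ν) (by rw [← hn, Multiset.card_cons]; omega) ν hν rfl
      obtain ⟨H, Y, hs, -, h⟩ := exists_block (F := F) e
      have hp := h.prod h'
      rw [Multiset.singleton_add] at hp
      exact transport _ _ _ (fun u v => by
        simp only [LinearMap.add_apply, LinearMap.compl₁₂_apply, LinearMap.fst_apply, LinearMap.snd_apply]
        rw [hs heo, hs']) hp
    · push Not at hodd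
      rcases μ.empty_or_exists_mem with rfl | ⟨e, he⟩
      · exact transport (W := (Fin 0 → F)) 0 0 0 (fun _ _ => rfl)
          ⟨fun u _ => Subsingleton.elim _ _, fun u _ => Subsingleton.elim _ _, fun _ _ => by simp,
            fun i => by rw [rankSeq_top]; simp [Module.finrank_zero_of_subsingleton]⟩
      · have hee : Even e := Nat.not_odd_iff_even.1 (hodd e he)
        obtain ⟨ν₁, rfl⟩ := Multiset.exists_cons_of_mem he
        have hmem : e ∈ ν₁ := by
          by_contra h
          have := hμ e hee
          rw [Multiset.count_cons_self, Multiset.count_eq_zero.2 h] at this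
          exact absurd this (by decide)
        obtain ⟨ν, rfl⟩ := Multiset.exists_cons_of_mem hmem
        have hν : ∀ e', Even e' → Even (ν.count e') := fun e' he' => by
          have := hμ e' he'
          by_cases h : e' = e
          · subst h
            rw [Multiset.count_cons_self, Multiset.count_cons_self] at this
            simpa [parity_simps] using this
          · rwa [Multiset.count_cons_of_ne h, Multiset.count_cons_of_ne h] at this
        obtain ⟨B', Y', hs', h'⟩ := ih (Multiset.card ν)
          (by rw [← hn, Multiset.card_cons, Multiset.card_cons]; omega) ν hν rfl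
        obtain ⟨H, Y, -, -, h⟩ := exists_block (F := F) e
        obtain ⟨H₂, hs, h₂⟩ := h.double
        have hp := h₂.prod h'
        rw [show ({e} + {e} + ν : Multiset ℕ) = e ::ₘ e ::ₘ ν by simp [Multiset.singleton_add]] at hp
        exact transport _ _ _ (fun u v => by
          simp only [LinearMap.add_apply, LinearMap.compl₁₂_apply, LinearMap.fst_apply, LinearMap.snd_apply]
          rw [hs, hs']) hp

/-- The Cayley transform of a nilpotent skew map. -/
theorem exists_isometry_of_skew {V : Type v} [AddCommGroup V] [Module F V] [FiniteDimensional F V]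
    (h2 : (2 : F) ≠ 0) {p : ℕ} (B : LinearMap.BilinForm F V) (Y : Module.End F V)
    (hY : ∀ u v, B (Y u) v = -B u (Y v)) (hYp : Y ^ p = 0) :
    ∃ x : Module.End F V, (∀ u v, B (x u) (x v) = B u v) ∧ (x - 1) ^ p = 0 ∧
      ∀ i, rankSeq (x - 1) ⊤ i = rankSeq Y ⊤ i := by
  classical
  set S : Module.End F V := ∑ i ∈ Finset.range p, Y ^ i with hS
  have hS1 : (1 - Y) * S = 1 := by rw [hS, mul_neg_geom_sum, hYp, sub_zero]
  have hS2 : S * (1 - Y) = 1 := by rw [hS, geom_sum_mul_neg, hYp, sub_zero]
  have hcomm : Commute Y S := Commute.sum_right _ _ _ fun i _ => Commute.self_pow Y i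
  let x : Module.End F V := (1 + Y) * S
  have hx1 : x - 1 = ((2 : F) • S) * Y := by
    show (1 + Y) * S - 1 = _
    rw [smul_mul_assoc, ← hcomm.eq]
    nth_rewrite 2 [← hS1]
    rw [two_smul]
    noncomm_ring
  refine ⟨x, fun u v => ?_, ?_, fun i => ?_⟩
  · have hu : u = S u - Y (S u) := by
      conv_lhs => rw [show u = ((1 - Y) * S) u by rw [hS1]; rfl]
      rfl
    have hv : v = S v - Y (S v) := by
      conv_lhs => rw [show v = ((1 - Y) * S) v by rw [hS1]; rfl]
      rfl
    have hxu : ∀ w, x w = S w + Y (S w) := fun w => rfl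
    rw [hxu, hxu]
    conv_rhs => rw [hu, hv]
    simp only [map_add, map_sub, LinearMap.add_apply, LinearMap.sub_apply]
    rw [hY (S u) (S v)]
    ring
  · rw [hx1, ((hcomm.symm).smul_left (2 : F)).mul_pow, hYp, mul_zero]
  · rw [rankSeq_top, rankSeq_top, hx1, ((hcomm.symm).smul_left (2 : F)).eq,
      ((hcomm.smul_right (2 : F))).mul_pow, Module.End.mul_eq_comp, LinearMap.range_comp_of_range_eq_top]
    have hu : IsUnit ((2 : F) • S) :=
      ⟨⟨(2 : F) • S, (2 : F)⁻¹ • (1 - Y),
        by rw [smul_mul_smul_comm, hS2, mul_inv_cancel₀ h2, one_smul],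
        by rw [smul_mul_smul_comm, hS1, inv_mul_cancel₀ h2, one_smul]⟩, rfl⟩
    rw [LinearMap.range_eq_top]
    exact ((Module.End.isUnit_iff _).1 (hu.pow i)).surjective

end CfsgLib.Omega
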